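import Cfsg.Agent.H30.SectFour.SelfCentral

/-! Assembly of the bound for a 2-group with a self-centralising `E₈`. -/

set_option autoImplicit false
set_option linter.all false

namespace H30.SF

open scoped commutatorElement
open H31.SR

universe u

variable {S : Type u} [Group S] [Finite S] {z z2 b : S} {B : Subgroup S}

theorem comm_mem_symm {K : Subgroup S} {x y : S} (h : ⁅x, y⁆ ∈ K) : ⁅y, x⁆ ∈ K := by
  rw [← commutatorElement_inv]; exact inv_mem h

/-- The quotient over `B` when few elements centralise `a` modulo `B`. -/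
theorem bd_quot (E : Eight z z2 b B) [B.Normal] (h2 : IsPGroup 2 S) (K : Subgroup S) (hBK : B ≤ K) {a : S} (haK : a ∈ K)
    (haa : a * a = 1)
    (h16 : Nat.card ↥(E.C ⊓ (Subgroup.centralizer ({QuotientGroup.mk' B a} : Set (S ⧸ B))).comap (QuotientGroup.mk' B)) ≤ 16)
    (h : ∀ g ∈ K, ⁅g, a⁆ ∈ B → g ∈ E.C ∨ g * a ∈ E.C) : Bd 2 (K.map (QuotientGroup.mk' B)) := by
  set π := QuotientGroup.mk' B with hπ
  set X := (Subgroup.centralizer ({π a} : Set (S ⧸ B))).comap π with hX
  refine bd_subgroup _ (bd_two _ ((h2.to_quotient B).to_subgroup _) rfl ⟨π a, a, haK, rfl⟩ ?_)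
  refine (card_sub_cent _ _).trans ?_
  show Nat.card ↥(K.map π ⊓ Subgroup.centralizer ({π a} : Set (S ⧸ B))) ≤ 4
  have hle : (K.map π ⊓ Subgroup.centralizer ({π a} : Set (S ⧸ B))).comap π ≤ K ⊓ X := fun g hg => by
    obtain ⟨⟨k, hk, hke⟩, hg2⟩ := hg
    refine ⟨?_, hg2⟩
    have := K.mul_mem hk (hBK (QuotientGroup.eq.mp hke : k⁻¹ * g ∈ B))
    rwa [mul_inv_cancel_left] at this
  have haX : a ∈ X := (mem_comap_cent B).mpr (by rw [comm_eq_one.mpr rfl]; exact one_mem B)
  have hsub : ((K ⊓ X : Subgroup S) : Set S) ⊆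
      ((E.C ⊓ X : Subgroup S) : Set S) ∪ (fun g => g * a) '' ((E.C ⊓ X : Subgroup S) : Set S) := by
    rintro g ⟨hgK, hgX⟩
    rcases h g hgK ((mem_comap_cent B).mp hgX) with h' | h'
    · exact Or.inl ⟨h', hgX⟩
    · exact Or.inr ⟨g * a, ⟨h', X.mul_mem hgX haX⟩, by show g * a * a = g; rw [mul_assoc, haa, mul_one]⟩
  have hc : Nat.card ↥(K ⊓ X) ≤ 32 := by
    have h1 := (Set.ncard_le_ncard hsub (Set.toFinite _)).trans (Set.ncard_union_le _ _)
    rw [Set.ncard_image_of_injective _ (mul_left_injective a), ← Nat.card_coe_set_eq, ← Nat.card_coe_set_eq] at h1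
    exact h1.trans (Nat.add_le_add h16 h16)
  have h2' := Subgroup.card_le_of_le hle
  rw [card_comap_mk, E.card] at h2'
  omega

namespace Act

variable {A : Subgroup S} {a p q t : S}

/-- The main case: `a` outside the centraliser of `B`. -/
theorem bd (E : Eight z z2 b B) (D : Act A B z z2 a p q t) (h2 : IsPGroup 2 S)
    (hA2 : ∀ x ∈ A, x * x = 1) (hAc : ∀ x ∈ A, ∀ y ∈ A, x * y = y * x) (hA8 : Nat.card A = 8)
    (hC : ∀ c : S, (∀ x ∈ A, c * x = x * c) → c ∈ A) : Bd 4 (⊤ : Subgroup S) := by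
  haveI := E.normal
  haveI := E.C_normal
  by_cases hCB : E.C = B
  · exact E.bd_self h2 hCB
  set π := QuotientGroup.mk' B with hπ
  set R := D.R E with hR
  have hcap := D.cap E h2 hA2 hAc hA8 hC
  obtain ⟨f, hfC, hfB, hff, hfc⟩ := exists_layer_top h2 E.C B E.B_le_C
    (fun h => hCB (le_antisymm h E.B_le_C))
  have hfcom : ∀ e ∈ B, f * e = e * f := fun e he => E.cC he hfC
  set w := ⁅a, f⁆ with hwdef
  have hwR : w ∈ R := D.val_mem E (hfc a)
  have htB : t ∈ B := D.R_le E (D.tR E)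
  have hw1 : w ≠ 1 := fun e => hfB (D.R_le E (hcap f hfC (comm_eq_one.mp e)))
  have hafq : ⁅a, f * q⁆ = w * t := by
    rw [comm_mul_right, D.aq, hfcom t htB, mul_inv_cancel_right]
  have hwt : w ≠ t := by
    intro e
    have h1 : f * q ∈ R := hcap _ (mul_mem hfC (E.B_le_C D.qB))
      (comm_eq_one.mp (by rw [hafq, e, E.sq t htB]))
    exact hfB ((Subgroup.mul_mem_cancel_right _ D.qB).mp (D.R_le E h1))
  have hwt1 : w * t ≠ 1 := fun e =>
    hwt ((eq_inv_of_mul_eq_one_left e).trans (inv_eq_of_mul_eq_one_right (E.sq t htB)))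
  have hRform : ∀ x ∈ R, x = 1 ∨ x = w ∨ x = t ∨ x = w * t := fun x hx =>
    eq_of_four_le (D.card_R E).le hwR (D.tR E) (mul_mem hwR (D.tR E)) hw1 D.t1 hwt1 hwt
      (fun e => D.t1 (mul_eq_left.mp e.symm)) (fun e => hw1 (mul_eq_right.mp e.symm)) hx
  -- the preimage of the centraliser of `a`
  set X := (Subgroup.centralizer ({π a} : Set (S ⧸ B))).comap π with hX
  have h16 : Nat.card ↥(E.C ⊓ X) ≤ 16 := by
    refine (card_le_mul_W (W := R) a fun g hg => ?_).trans ?_
    · have h1 := inv_mem (D.val_mem E (comm_mem_symm ((mem_comap_cent B).mp hg.2)))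
      rwa [commutatorElement_inv] at h1
    · rw [D.card_R E]
      exact Nat.mul_le_mul_right 4 ((Subgroup.card_le_of_le (fun g hg =>
        hcap g hg.1.1 (mem_cent.mp hg.2).symm :
          (E.C ⊓ X) ⊓ Subgroup.centralizer ({a} : Set S) ≤ R)).trans (D.card_R E).le)
  have hπf : ∀ r : S ⧸ B, r * π f = π f * r := by
    intro r
    obtain ⟨g, rfl⟩ := QuotientGroup.mk'_surjective B r
    rw [← comm_eq_one, ← map_commutatorElement]
    exact (QuotientGroup.eq_one_iff _).mpr (hfc g)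
  have hπff : π f * π f = 1 := by rw [← map_mul]; exact (QuotientGroup.eq_one_iff _).mpr hff
  haveI := zpowers_normal hπf
  set F := (Subgroup.zpowers (π f)).comap π with hFdef
  haveI : F.Normal := Subgroup.Normal.comap inferInstance π
  have hFcases : ∀ g ∈ F, g ∈ B ∨ g * f ∈ B := fun g hg => mem_of_subgroup_pair hπff rfl hg
  have hF16 : Nat.card F = 16 := by
    rw [hFdef, card_comap_mk, card_pair hπff (fun h => hfB ((QuotientGroup.eq_one_iff f).mp h)), E.card]
  have hfX : f ∈ X := (mem_comap_cent B).mpr (comm_mem_symm (hfc a))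
  have hBX : B ≤ X := fun x hx => (mem_comap_cent B).mpr (comm_mem_symm (E.comm_B hx))
  have hFX : F = E.C ⊓ X := Subgroup.eq_of_le_of_card_ge (fun g hg => by
    rcases hFcases g hg with h | h
    · exact ⟨E.B_le_C h, hBX h⟩
    · exact ⟨(Subgroup.mul_mem_cancel_right _ hfC).mp (E.B_le_C h),
        (Subgroup.mul_mem_cancel_right _ hfX).mp (hBX h)⟩) (hF16 ▸ h16)
  -- adjusting to commute with `a`
  have hadj : ∀ x : S, ⁅x, a⁆ ∈ B → ∃ c ∈ E.C, a * (c * x) = c * x * a := by
    intro x hx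
    have hR' : ⁅a, x⁆ ∈ R := D.val_mem E (comm_mem_symm hx)
    obtain ⟨c, hc, hce⟩ : ∃ c ∈ E.C, ⁅a, c⁆ = ⁅a, x⁆ := by
      rcases hRform _ hR' with e | e | e | e
      · exact ⟨1, one_mem _, by rw [e, commutatorElement_one_right]⟩
      · exact ⟨f, hfC, e.symm⟩
      · exact ⟨q, E.B_le_C D.qB, by rw [e, D.aq]⟩
      · exact ⟨f * q, mul_mem hfC (E.B_le_C D.qB), by rw [e, hafq]⟩
    refine ⟨c, hc, comm_eq_one.mp ?_⟩
    rw [comm_mul_right, hce, E.cC (D.R_le E hR') hc, mul_inv_cancel_right, E.sq _ (D.R_le E hR')]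
  -- fixing the centre of the transvection
  have hfixt : ∀ y : S, a * y = y * a → y * t = t * y := by
    intro y hy
    have h1 : y * t * y⁻¹ = ⁅a, y * q * y⁻¹⁆ := by
      rw [← D.aq, commutatorElement_def, commutatorElement_def, show y * (a * q * a⁻¹ * q⁻¹) * y⁻¹
        = (y * a * y⁻¹) * (y * q * y⁻¹) * (y * a * y⁻¹)⁻¹ * (y * q * y⁻¹)⁻¹ by group, ← hy, mul_inv_cancel_right]
    rcases D.vals _ (E.normal.conj_mem q D.qB y) with e | e
    · exfalso
      rw [e] at h1
      exact D.t1 (by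
        have := congrArg (fun s => y⁻¹ * s * y) h1
        simpa [mul_assoc] using this)
    · rw [e] at h1
      exact mul_inv_eq_iff_eq_mul.mp h1
  have hzA : z ∈ A := hC z fun x _ => (E.P.zc x).symm
  -- an element commuting with `a` and `R` lies over `C`
  have hstep : (∀ x ∈ A, p * x = x * p) → ∀ y : S, a * y = y * a → y * p = p * y → y ∈ E.C ∨ y * a ∈ E.C := by
    intro hp y hya hyp
    have hRA : R ≤ A := fun x hx => by
      rcases mem_four'.mp hx with e | e | e | e <;> rw [e]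
      exacts [one_mem _, hzA, hC p hp, mul_mem hzA (hC p hp)]
    have hcases := cases_eight hRA (D.card_R E) hA8 D.aA (fun h => D.aC (E.B_le_C (D.R_le E h)))
    have hyR : ∀ x ∈ R, Commute y x := fun x hx => by
      rcases mem_four'.mp hx with e | e | e | e <;> rw [e]
      exacts [Commute.one_right y, E.P.zc y, hyp, Commute.mul_right (show Commute y z from E.P.zc y) hyp]
    have hyA : y ∈ A := hC y fun x hx => by
      rcases hcases x hx with h | h
      · exact hyR x h
      · have h1 : Commute y (x * a * a) := (hyR _ h).mul_right hya.symm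
        rwa [mul_assoc, D.aa, mul_one] at h1
    exact (hcases y hyA).imp (fun h => E.B_le_C (D.R_le E h)) (fun h => E.B_le_C (D.R_le E h))
  have hback : ∀ c ∈ E.C, ∀ x : S, c * x ∈ E.C ∨ c * x * a ∈ E.C → x ∈ E.C ∨ x * a ∈ E.C := fun c hc x h =>
    h.imp (Subgroup.mul_mem_cancel_left _ hc).mp
      (fun h' => (Subgroup.mul_mem_cancel_left _ hc).mp (mul_assoc c x a ▸ h'))
  by_cases hbig : 16 < Nat.card E.C
  · -- large centraliser
    have hne : ¬ E.C ≤ F := fun h => by have := Subgroup.card_le_of_le h; omega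
    obtain ⟨g, hgC, hgF, -, hgc⟩ := exists_layer_top h2 E.C F (hFX ▸ inf_le_left) hne
    set y := ⁅a, g⁆ with hy
    have hyB : y ∉ B := fun h => hgF (hFX ▸ ⟨hgC, (mem_comap_cent B).mpr (comm_mem_symm h)⟩)
    have hyf : y * f ∈ B := (hFcases y (hgc a)).resolve_left hyB
    set e := y * f * (f * f) with hedef
    have heB : e ∈ B := mul_mem hyf hff
    have hye : y = e * f⁻¹ * f⁻¹ * f⁻¹ := by rw [hedef]; group
    have h4 : f⁻¹ * f⁻¹ * f⁻¹ = f := by
      rw [mul_assoc, ← mul_inv_rev, inv_eq_of_mul_eq_one_right (E.sq _ hff), inv_mul_cancel_left]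
    have hye' : y = e * f := by rw [hye, mul_assoc e, mul_assoc e, h4]
    have hffR : f * f = ⁅a, e⁆ * w := by
      have h1 : a * y * a⁻¹ * y = 1 := by rw [hy, conj_by_invol D.aa, inv_mul_cancel]
      have h3 : a * y * a⁻¹ = ⁅a, e⁆ * w * e * f := by
        rw [hye', show a * (e * f) * a⁻¹ = a * e * a⁻¹ * (a * f * a⁻¹) by group, conj_commutator a e,
          conj_commutator a f, ← hwdef, show ⁅a, e⁆ * e * (w * f) = ⁅a, e⁆ * (e * w) * f by group,
          E.com e heB w (D.R_le E hwR), ← mul_assoc]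
      rw [h3, hye', show ⁅a, e⁆ * w * e * f * (e * f) = ⁅a, e⁆ * w * (e * (f * e) * f) by group,
        hfcom e heB, ← mul_assoc e e, E.sq e heB, one_mul] at h1
      exact (eq_inv_of_mul_eq_one_right h1).trans (inv_eq_of_mul_eq_one_right
        (E.sq _ (mul_mem (E.comm_B heB) (D.R_le E hwR))))
    have hc0 : f * f = w ∨ f * f = w * t := by
      rcases D.vals e heB with h | h <;> rw [hffR, h]
      · exact Or.inl (one_mul w)
      · exact Or.inr (E.com t htB w (D.R_le E hwR))
    have hff1 : f * f ≠ 1 := by rcases hc0 with h | h <;> rw [h] <;> assumption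
    have hfixc : ∀ s : S, s * (f * f) = f * f * s := by
      intro s
      have h1 : s * (f * f) * s⁻¹ = f * f := by
        rw [show s * (f * f) * s⁻¹ = s * f * s⁻¹ * (s * f * s⁻¹) by group, conj_commutator s f,
          show ⁅s, f⁆ * f * (⁅s, f⁆ * f) = ⁅s, f⁆ * (f * ⁅s, f⁆) * f by group, hfcom _ (hfc s),
          ← mul_assoc ⁅s, f⁆, E.sq _ (hfc s), one_mul]
      exact mul_inv_eq_iff_eq_mul.mp h1
    have hfixR : ∀ y : S, a * y = y * a → ∀ x ∈ R, y * x = x * y := by
      intro y hy' x hx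
      have h1 : Commute y t := hfixt y hy'
      have h3 : Commute y w := by
        have h5 : Commute y (f * f) := hfixc y
        rcases hc0 with h | h
        · exact h ▸ h5
        · have h6 := (h ▸ h5 : Commute y (w * t)).mul_right h1
          rwa [mul_assoc, E.sq t htB, mul_one] at h6
      rcases hRform x hx with rfl | rfl | rfl | rfl
      exacts [Commute.one_right y, h3, h1, h3.mul_right h1]
    have hpR : p ∈ R := mem_four'.mpr (Or.inr (Or.inr (Or.inl rfl)))
    have hp : ∀ x ∈ A, p * x = x * p := fun x hx => (hfixR x (hAc a D.aA x hx) p hpR).symm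
    refine E.bd_master h2 ⊤ (bd_quot E h2 ⊤ le_top (Subgroup.mem_top a) D.aa h16 fun x _ hx => ?_)
      fun _ => ⟨rfl, f, hfc, hff, hff1⟩
    obtain ⟨c, hc, hcx⟩ := hadj x hx
    exact hback c hc x (hstep hp _ hcx (hfixR _ hcx p hpR))
  -- small centraliser
  push Not at hbig
  have hCF : E.C = F := (Subgroup.eq_of_le_of_card_ge (hFX ▸ inf_le_left : F ≤ E.C) (by omega)).symm
  have hCc : ∀ c ∈ E.C, Commute c f := by
    intro c hc
    rcases hFcases c (hCF ▸ hc) with h | h
    · exact (hfcom c h).symm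
    · have h1 : Commute (c * f * f⁻¹) f :=
        Commute.mul_left (show Commute (c * f) f from (hfcom _ h).symm) (Commute.refl f).inv_left
      rwa [mul_inv_cancel_right] at h1
  by_cases hCw : Nat.card ↥(Subgroup.centralizer ({w} : Set S)) ≤ 32
  · exact bd_four _ h2 w rfl hw1 hCw (Subgroup.commutator_mem_commutator
      (mem_cent.mpr (D.R_comm E hwR)) (mem_cent.mpr (hfcom w (D.R_le E hwR))))
  have hwW : w ∈ E.P.W := by
    by_contra hwW
    refine hCw ((card_le_mul_W (W := Subgroup.zpowers z) z2 fun g _ => (mem_pair E.P.zz).mpr (E.P.comm g)).trans ?_)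
    rw [card_pair E.P.zz E.P.zne]
    have hle : Subgroup.centralizer ({w} : Set S) ⊓ Subgroup.centralizer ({z2} : Set S) ≤ E.C := fun g hg => by
      refine E.mem_C hg.2 ?_
      have h1 : Commute g (w * b) := E.P.W_c ((E.cases w (D.R_le E hwR)).resolve_left hwW) hg.2
      have h3 : Commute g (w⁻¹ * (w * b)) := (show Commute g w from mem_cent.mp hg.1).inv_right.mul_right h1
      rwa [inv_mul_cancel_left] at h3
    have := Subgroup.card_le_of_le hle
    omega
  have haz : ⁅a, z2⁆ = 1 := by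
    by_contra h
    have htz := D.moved h
    rcases E.P.mem_W.mp hwW with e | e | e | e
    · exact hw1 e
    · exact hwt (e.trans htz.symm)
    · exact h (comm_eq_one.mpr (e ▸ D.R_comm E hwR))
    · refine h (comm_eq_one.mpr ?_)
      have h1 : Commute a (z⁻¹ * (z * z2)) :=
        (show Commute a z from E.P.zc a).inv_right.mul_right (e ▸ D.R_comm E hwR)
      rwa [inv_mul_cancel_left] at h1
  obtain ⟨hpz, hAz⟩ := D.sel haz
  have hp : ∀ x ∈ A, p * x = x * p := fun x hx => hpz ▸ (hAz x hx).symm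
  have haM : a ∈ E.P.M := mem_cent.mpr (comm_eq_one.mp haz)
  have hM : ∀ g ∈ E.P.M, ⁅g, a⁆ ∈ B → g ∈ E.C ∨ g * a ∈ E.C := fun g hg hga => by
    obtain ⟨c, hc, hcx⟩ := hadj g hga
    exact hback c hc g (hstep hp _ hcx (hpz ▸ mem_cent.mp (mul_mem (E.C_le_M hc) hg)))
  have hMbd : Bd 4 E.P.M := E.bd_master h2 _
    (bd_quot E h2 _ (E.B_le_C.trans E.C_le_M) haM D.aa h16 hM) fun h => by omega
  have hpR' : R ≤ E.P.W := fun x hx => by
    rcases mem_four'.mp hx with e | e | e | e <;> rw [e]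
    exacts [one_mem _, E.P.z_W, hpz ▸ E.P.z2_W, mul_mem E.P.z_W (hpz ▸ E.P.z2_W)]
  by_cases htz : t ≠ z
  · refine E.bd_master h2 ⊤ (bd_quot E h2 ⊤ le_top (Subgroup.mem_top a) D.aa h16 fun x _ hx => ?_) fun h => by omega
    obtain ⟨c, hc, hcx⟩ := hadj x hx
    refine hback c hc x (hstep hp _ hcx ?_)
    have h1 : Commute (c * x) t := hfixt _ hcx
    rcases E.P.mem_W.mp (hpR' (D.tR E)) with e | e | e | e
    · exact absurd e D.t1
    · exact absurd e htz
    · rw [hpz]; exact e ▸ h1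
    · rw [hpz]
      have h3 : Commute (c * x) (z⁻¹ * (z * z2)) :=
        (show Commute (c * x) z from E.P.zc _).inv_right.mul_right (e ▸ h1)
      rwa [inv_mul_cancel_left] at h3
  push Not at htz
  haveI := zpowers_normal E.P.zc
  refine bd_step z z2 E.P.zc E.P.zz ?_ (fun h => ?_) (fun g => (mem_pair E.P.zz).mpr (E.P.comm g))
    (by rw [E.P.z2z2]; exact one_mem _) (fun _ => hMbd)
  swap
  · rcases (mem_pair E.P.zz).mp h with e | e
    exacts [E.P.z2ne e, E.P.z2nz e]
  intro H0 N0 _ hs0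
  by_contra hlt
  push Not at hlt
  have hrel0 := pow_of_rel (h2.to_quotient _) hs0 hlt
  set φ := QuotientGroup.mk' (Subgroup.zpowers z) with hφ
  set H := H0.comap φ with hH
  set N := N0.comap φ with hN
  have hs : Sec H N := ⟨Subgroup.comap_mono hs0.le,
    fun x hx y hy => Subgroup.mem_comap.mpr (by rw [map_commutatorElement]; exact hs0.comm _ hx _ hy),
    fun x hx => Subgroup.mem_comap.mpr (by rw [map_mul]; exact hs0.sq _ hx)⟩
  have hrel : 32 ≤ N.relIndex H := by
    rw [hN, Subgroup.relIndex_comap, hH, Subgroup.map_comap_eq_self_of_surjective (QuotientGroup.mk'_surjective _)]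
    norm_num at hrel0 ⊢
    exact hrel0
  have hzN : z ∈ N := Subgroup.mem_comap.mpr (by
    rw [show φ z = 1 from (QuotientGroup.eq_one_iff z).mpr (Subgroup.mem_zpowers z)]; exact one_mem _)
  have hwz : w ∉ Subgroup.zpowers z := fun h => by
    rcases (mem_pair E.P.zz).mp h with e | e
    exacts [hw1 e, hwt (e.trans htz.symm)]
  have hN2 : 2 ≤ Nat.card N :=
    card_pair E.P.zz E.P.zne ▸ Subgroup.card_le_of_le (Subgroup.zpowers_le.mpr hzN)
  have hH32 : 32 * Nat.card N ≤ Nat.card H := by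
    rw [← relIndex_mul_card hs.le]
    exact Nat.mul_le_mul_right _ hrel
  have hS := E.card_le
  have hHS := Subgroup.card_le_card_group H
  by_cases hHt : H = ⊤
  · have hall : ∀ x : S, x ∈ H := fun x => hHt ▸ Subgroup.mem_top x
    have hwN : w ∈ N := hs.comm a (hall a) f (hall f)
    have hWN : E.P.W ≤ N := by
      intro x hx
      have hwR' : w = z2 ∨ w = z * z2 := by
        rcases E.P.mem_W.mp hwW with e | e | e | e
        exacts [absurd e hw1, absurd (e.trans htz.symm) hwt, Or.inl e, Or.inr e]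
      have hz2N : z2 ∈ N := by
        rcases hwR' with e | e
        · exact e ▸ hwN
        · exact (Subgroup.mul_mem_cancel_left _ hzN).mp (e ▸ hwN)
      rcases E.P.mem_W.mp hx with rfl | rfl | rfl | rfl
      exacts [one_mem _, hzN, hz2N, mul_mem hzN hz2N]
    have hW4 : 4 ≤ Nat.card N := E.P.card_W ▸ Subgroup.card_le_of_le hWN
    have hNW : N = E.P.W := (Subgroup.eq_of_le_of_card_ge hWN (by rw [E.P.card_W]; omega)).symm
    obtain ⟨s, r, hsr⟩ := E.exists_comm_notin (by omega)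
    exact hsr (E.B_le_C (E.Wle (hNW ▸ hs.comm s (hall s) r (hall r))))
  have hH64 : 2 * Nat.card H ≤ Nat.card S := by
    obtain ⟨k, hk⟩ := Subgroup.card_subgroup_dvd_card H
    rcases k with - | - | k
    · have := Nat.card_pos (α := S); omega
    · exact absurd (Subgroup.eq_top_of_card_eq H (by omega)) hHt
    · rw [hk, Nat.mul_comm 2]; exact Nat.mul_le_mul_left _ (by omega)
  have hNz : N = Subgroup.zpowers z :=
    (Subgroup.eq_of_le_of_card_ge (Subgroup.zpowers_le.mpr hzN) (by rw [card_pair E.P.zz E.P.zne]; omega)).symm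
  have hHC : H ⊔ E.C ≠ ⊤ := by
    intro htop
    obtain ⟨s, r, hsr⟩ := E.exists_comm_notin (by omega)
    set κ := QuotientGroup.mk' E.C with hκ
    have hmap : ∀ x : S, ∃ h ∈ H, κ h = κ x := fun x => by
      have h1 : κ x ∈ (H ⊔ E.C).map κ := ⟨x, htop ▸ Subgroup.mem_top x, rfl⟩
      rw [Subgroup.map_sup, QuotientGroup.map_mk'_self, sup_bot_eq] at h1
      exact h1
    obtain ⟨h, hh, hhe⟩ := hmap s
    obtain ⟨h', hh', hhe'⟩ := hmap r
    refine hsr ((QuotientGroup.eq_one_iff _).mp ?_)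
    show κ ⁅s, r⁆ = 1
    rw [map_commutatorElement, ← hhe, ← hhe', ← map_commutatorElement]
    exact (QuotientGroup.eq_one_iff _).mpr
      (E.B_le_C ((Subgroup.zpowers_le.mpr E.zB) (hNz ▸ hs.comm h hh h' hh')))
  have hCH : E.C ≤ H := by
    have h1 := card_lt_of_not_top hHC
    obtain ⟨k, hk⟩ := Subgroup.card_subgroup_dvd_card (H ⊔ E.C)
    have h3 : 2 * Nat.card ↥(H ⊔ E.C) ≤ Nat.card S := by
      rcases k with - | - | k
      · have := Nat.card_pos (α := S); omega
      · omega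
      · rw [hk, Nat.mul_comm 2]; exact Nat.mul_le_mul_left _ (by omega)
    have h4 : H = H ⊔ E.C := Subgroup.eq_of_le_of_card_ge le_sup_left (by omega)
    exact h4 ▸ le_sup_right
  obtain ⟨x, hx, hxC⟩ : ∃ x ∈ H ⊓ E.P.M, x ∉ E.C := by
    by_contra hcon
    push Not at hcon
    have h1 := card_le_mul_W (M := H) (W := Subgroup.zpowers z) z2 fun g _ => (mem_pair E.P.zz).mpr (E.P.comm g)
    rw [card_pair E.P.zz E.P.zne] at h1
    have h3 : Nat.card ↥(H ⊓ Subgroup.centralizer ({z2} : Set S)) ≤ Nat.card E.C := Subgroup.card_le_of_le hcon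
    omega
  have hxb : ⁅x, b⁆ = z := by
    rcases (mem_pair E.P.zz).mp (hNz ▸ hs.comm x hx.1 b (hCH (E.B_le_C E.bB))) with e | e
    · exact absurd (E.mem_C hx.2 (comm_eq_one.mp e)) hxC
    · exact e
  have hab : ⁅a, b⁆ = z := by
    rcases D.vals b E.bB with e | e
    · exact absurd (E.mem_C haM (comm_eq_one.mp e)) D.aC
    · exact e.trans htz
  have hax : a * x ∈ E.C := E.mem_C (mul_mem haM hx.2) (comm_eq_one.mp (by
    rw [comm_mul_left, hxb, hab, E.P.zc a, mul_inv_cancel_right, E.P.zz]))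
  have hxf : ⁅x, f⁆ = w := by
    rw [show x = a * (a * x) by rw [← mul_assoc, D.aa, one_mul], comm_mul_left, comm_eq_one.mpr (hCc _ hax).eq,
      mul_one, mul_inv_cancel, one_mul]
  exact hwz (hNz ▸ hxf ▸ hs.comm x hx.1 f (hCH hfC))

end Act

/-- A self-centralising elementary subgroup of order eight bounds the sectional rank by four. -/
theorem sectional_of_self_central_eight (h2 : IsPGroup 2 S) (A : Subgroup S) (hAc : ∀ x ∈ A, ∀ y ∈ A, x * y = y * x)
    (hA2 : ∀ x ∈ A, x * x = 1) (hA8 : Nat.card A = 8) (hC : ∀ c : S, (∀ x ∈ A, c * x = x * c) → c ∈ A) :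
    Cfsg.SectionalPRankLE 2 4 S := by
  haveI : Fact (Nat.Prime 2) := ⟨Nat.prime_two⟩
  by_cases hn : ∀ V : Subgroup S, V.Normal → IsMulCommutative V → (∀ a ∈ V, a ^ 2 = 1) → Nat.card V ≤ 4
  · exact H73.MW.sectional_le_four h2 hn
  push Not at hn
  obtain ⟨V, hVn, hVc, hV2, hV4⟩ := hn
  haveI := hVn
  have hsq : ∀ x ∈ V, x * x = 1 := fun x hx => by rw [← pow_two]; exact hV2 x hx
  have hcom : ∀ x ∈ V, ∀ y ∈ V, x * y = y * x := fun x hx y hy =>
    congrArg Subtype.val (hVc.is_comm.comm ⟨x, hx⟩ ⟨y, hy⟩)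
  obtain ⟨z, hzV, hz1, -, hzc⟩ := exists_layer_top h2 V ⊥ bot_le (fun h => by
    have := Subgroup.card_le_of_le h
    rw [Subgroup.card_bot] at this
    omega)
  rw [Subgroup.mem_bot] at hz1
  have hzc' : ∀ g : S, g * z = z * g := fun g => comm_eq_one.mp (Subgroup.mem_bot.mp (hzc g))
  haveI := zpowers_normal hzc'
  obtain ⟨z2, hz2V, hz2, -, hz2c⟩ := exists_layer_top h2 V (Subgroup.zpowers z) (Subgroup.zpowers_le.mpr hzV) (fun h => by
    have := Subgroup.card_le_of_le h
    rw [card_pair (hsq z hzV) hz1] at this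
    omega)
  have P : Pair z z2 := ⟨hzc', hsq z hzV, hsq z2 hz2V, hz1, fun e => hz2 (e ▸ one_mem _),
    fun e => hz2 (e ▸ Subgroup.mem_zpowers z), fun g => (mem_pair (hsq z hzV)).mp (hz2c g)⟩
  haveI := P.W_normal
  have hWV : P.W ≤ V := fun x hx => by
    rcases P.mem_W.mp hx with rfl | rfl | rfl | rfl
    exacts [one_mem _, hzV, hz2V, mul_mem hzV hz2V]
  obtain ⟨b, hbV, hbW, -, hbc⟩ := exists_layer_top h2 V P.W hWV (fun h => by
    have := Subgroup.card_le_of_le h
    rw [P.card_W] at this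
    omega)
  set ψ := QuotientGroup.mk' P.W with hψ
  have hψc : ∀ r : S ⧸ P.W, r * ψ b = ψ b * r := by
    intro r
    obtain ⟨g, rfl⟩ := QuotientGroup.mk'_surjective P.W r
    rw [← comm_eq_one, ← map_commutatorElement]
    exact (QuotientGroup.eq_one_iff _).mpr (hbc g)
  have hψbb : ψ b * ψ b = 1 := by rw [← map_mul, hsq b hbV, map_one]
  haveI := zpowers_normal hψc
  set B := (Subgroup.zpowers (ψ b)).comap ψ with hB
  have hBn : B.Normal := Subgroup.Normal.comap inferInstance ψ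
  have hBV : B ≤ V := fun x hx => by
    rcases mem_of_subgroup_pair hψbb rfl hx with h | h
    · exact hWV h
    · exact (Subgroup.mul_mem_cancel_right _ hbV).mp (hWV h)
  have hB8 : Nat.card B = 8 := by
    rw [hB, card_comap_mk, card_pair hψbb (fun h => hbW ((QuotientGroup.eq_one_iff b).mp h)), P.card_W]
  have E : Eight z z2 b B := ⟨P, hBn, hB8, fun x hx => Subgroup.mem_comap.mpr (by
      rw [show ψ x = 1 from (QuotientGroup.eq_one_iff x).mpr hx]; exact one_mem _),
    Subgroup.mem_comap.mpr (Subgroup.mem_zpowers _), hbW, fun x hx => hsq x (hBV hx),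
    fun x hx y hy => hcom x (hBV hx) y (hBV hy), hbc⟩
  refine sr_of_bd ?_
  by_cases hAC : A ≤ E.C
  · have hBA : B ≤ A := fun x hx => hC x fun y hy => (E.cC hx (hAC hy)).symm
    refine E.bd_self h2 (le_antisymm (fun c hc => ?_) E.B_le_C)
    have hAB : A = B := (Subgroup.eq_of_le_of_card_ge hBA (by rw [hA8, hB8])).symm
    exact hAB ▸ hC c fun y hy => E.cC (hAB ▸ hy) hc
  obtain ⟨a, p, q, t, D⟩ := exists_act E hA2 hAC
  exact D.bd E h2 hA2 hAc hA8 hC

end H30.SF
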