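import Cfsg.Agent.H30.SectFour.Tools

/-! A normal elementary subgroup of order eight in a 2-group: its centraliser and the section bound over it. -/

set_option autoImplicit false
set_option linter.all false

namespace H30.SF

open scoped commutatorElement
open H31.SR

universe u

variable {S : Type u} [Group S]

theorem conj_by_invol {x y : S} (hx : x * x = 1) : x * ⁅x, y⁆ * x⁻¹ = ⁅x, y⁆⁻¹ := by
  rw [commutatorElement_inv, commutatorElement_def, commutatorElement_def,
    show x * (x * y * x⁻¹ * y⁻¹) * x⁻¹ = x * x * y * x⁻¹ * y⁻¹ * x⁻¹ by group, hx, one_mul,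
    inv_eq_of_mul_eq_one_right hx]

/-- A subgroup of order four and an element outside it make up a group of order eight. -/
theorem cases_eight [Finite S] {Q A : Subgroup S} (hQA : Q ≤ A) (hQ : Nat.card Q = 4) (hA : Nat.card A = 8) {e : S}
    (he : e ∈ A) (heQ : e ∉ Q) : ∀ x ∈ A, x ∈ Q ∨ x * e ∈ Q := by
  intro x hx
  have hi : (Q.subgroupOf A).index = 2 := by
    have h1 := relIndex_mul_card hQA
    rw [hQ, hA, Subgroup.relIndex] at h1
    omega
  by_contra hcon
  push Not at hcon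
  exact hcon.2 ((Subgroup.mul_mem_iff_of_index_two hi (a := ⟨x, hx⟩) (b := ⟨e, he⟩)).mpr (iff_of_false hcon.1 heQ))

/-- A normal `E₈` with an adapted basis `z, z2, b`. -/
structure Eight (z z2 b : S) (B : Subgroup S) : Prop where
  P : Pair z z2
  normal : B.Normal
  card : Nat.card B = 8
  Wle : P.W ≤ B
  bB : b ∈ B
  bW : b ∉ P.W
  sq : ∀ x ∈ B, x * x = 1
  com : ∀ x ∈ B, ∀ y ∈ B, x * y = y * x
  hb : ∀ g : S, ⁅g, b⁆ ∈ P.W

namespace Eight

variable {z z2 b : S} {B : Subgroup S}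

/-- the centraliser -/
abbrev C (_E : Eight z z2 b B) : Subgroup S := Subgroup.centralizer (B : Set S)

variable (E : Eight z z2 b B)
include E

theorem zB : z ∈ B := E.Wle E.P.z_W

theorem z2B : z2 ∈ B := E.Wle E.P.z2_W

theorem B_le_C : B ≤ E.C := fun x hx => Subgroup.mem_centralizer_iff.mpr fun y hy => E.com y hy x hx

theorem cC {x c : S} (hx : x ∈ B) (hc : c ∈ E.C) : c * x = x * c := (Subgroup.mem_centralizer_iff.mp hc x hx).symm

theorem C_le_M : E.C ≤ E.P.M := fun c hc => mem_cent.mpr (E.cC E.z2B hc)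

theorem C_normal : E.C.Normal := ⟨fun c hc g => Subgroup.mem_centralizer_iff.mpr fun x hx => by
  have h1 := E.cC (E.normal.conj_mem x hx g⁻¹) hc
  rw [inv_inv] at h1
  calc x * (g * c * g⁻¹) = g * (g⁻¹ * x * g * c) * g⁻¹ := by group
    _ = g * (c * (g⁻¹ * x * g)) * g⁻¹ := by rw [h1]
    _ = g * c * g⁻¹ * x := by group⟩

theorem comm_B {g x : S} (hx : x ∈ B) : ⁅g, x⁆ ∈ B :=
  mul_mem (E.normal.conj_mem x hx g) (inv_mem hx)

variable [Finite S]

theorem cases : ∀ x ∈ B, x ∈ E.P.W ∨ x * b ∈ E.P.W :=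
  cases_eight E.Wle E.P.card_W E.card E.bB E.bW

theorem mem_C {g : S} (hgM : g ∈ E.P.M) (hgb : g * b = b * g) : g ∈ E.C := by
  refine Subgroup.mem_centralizer_iff.mpr fun x hx => ?_
  rcases E.cases x hx with h | h
  · exact (E.P.W_c h hgM).symm
  · have h1 : Commute g (x * b) := E.P.W_c h hgM
    have h2 := h1.mul_right (hgb : Commute g b)
    rw [mul_assoc, E.sq b E.bB, mul_one] at h2
    exact h2.symm

theorem card_M_le : Nat.card E.P.M ≤ 4 * Nat.card E.C := by
  refine (card_le_mul_W (W := E.P.W) b fun g _ => E.hb g).trans ?_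
  rw [E.P.card_W, mul_comm]
  exact Nat.mul_le_mul_left _ (Subgroup.card_le_of_le fun g hg => E.mem_C hg.1 (mem_cent.mp hg.2))

theorem card_le_M : Nat.card S ≤ 2 * Nat.card E.P.M := by
  rw [← Subgroup.card_top (G := S), mul_comm]
  refine (card_le_mul_W (W := Subgroup.zpowers z) z2 fun g _ => (mem_pair E.P.zz).mpr (E.P.comm g)).trans ?_
  rw [card_pair E.P.zz E.P.zne]
  exact Nat.mul_le_mul_right _ (Subgroup.card_le_of_le inf_le_right)

theorem card_le : Nat.card S ≤ 8 * Nat.card E.C := by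
  have h1 := E.card_M_le
  have h2 := E.card_le_M
  omega

/-- If the action is the full unitriangular group, it is not abelian. -/
theorem exists_comm_notin (h : 4 * Nat.card E.C < Nat.card S) : ∃ s r : S, ⁅s, r⁆ ∉ E.C := by
  obtain ⟨s, hs⟩ : ∃ s, s ∉ E.P.M := by
    by_contra hc
    push Not at hc
    have h1 := E.card_M_le
    rw [show E.P.M = ⊤ from eq_top_iff.mpr fun g _ => hc g, Subgroup.card_top] at h1
    omega
  obtain ⟨r, hrM, hr⟩ : ∃ r ∈ E.P.M, ⁅r, b⁆ ∉ Subgroup.zpowers z := by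
    by_contra hc
    push Not at hc
    have h1 := card_le_mul_W (W := Subgroup.zpowers z) b hc
    rw [card_pair E.P.zz E.P.zne] at h1
    have h2 := Nat.mul_le_mul_right 2 (Subgroup.card_le_of_le
      (fun g hg => E.mem_C hg.1 (mem_cent.mp hg.2) : E.P.M ⊓ Subgroup.centralizer ({b} : Set S) ≤ E.C))
    have h3 := E.card_le_M
    omega
  refine ⟨s, r, fun hc => ?_⟩
  set ξ := ⁅r, b⁆ with hξdef
  set η := ⁅s, b⁆ with hηdef
  have hξW : ξ ∈ E.P.W := E.hb r
  have hηW : η ∈ E.P.W := E.hb s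
  have hsz : ⁅s, z2⁆ = z := (E.P.comm s).resolve_left fun e => hs (mem_cent.mpr (comm_eq_one.mp e))
  have hsξ : s * ξ * s⁻¹ = z * ξ := by
    rcases E.P.moved hsz hξW with ⟨h1, -, -⟩ | ⟨-, h1, -⟩
    · exact absurd ((mem_pair E.P.zz).mpr h1) hr
    · exact h1
  have hrη : r * η * r⁻¹ = η := by rw [E.P.W_c hηW hrM, mul_inv_cancel_right]
  have key : (s * r) * b * (s * r)⁻¹ = ⁅s, r⁆ * (r * s * b * (r * s)⁻¹) * ⁅s, r⁆⁻¹ := by
    simp only [commutatorElement_def]; group
  have h1 : r * s * b * (r * s)⁻¹ = η * (ξ * b) := by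
    rw [show r * s * b * (r * s)⁻¹ = r * (s * b * s⁻¹) * r⁻¹ by group, conj_commutator s b, ← hηdef,
      show r * (η * b) * r⁻¹ = r * η * r⁻¹ * (r * b * r⁻¹) by group, hrη, conj_commutator r b, ← hξdef]
  have h2 : s * r * b * (s * r)⁻¹ = z * ξ * (η * b) := by
    rw [show s * r * b * (s * r)⁻¹ = s * (r * b * r⁻¹) * s⁻¹ by group, conj_commutator r b, ← hξdef,
      show s * (ξ * b) * s⁻¹ = s * ξ * s⁻¹ * (s * b * s⁻¹) by group, hsξ, conj_commutator s b, ← hηdef]
  rw [key, h1, E.cC (mul_mem (E.Wle hηW) (mul_mem (E.Wle hξW) E.bB)) hc, mul_inv_cancel_right,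
    mul_assoc z ξ, ← mul_assoc ξ η b, E.com _ (E.Wle hξW) _ (E.Wle hηW), mul_assoc η ξ b] at h2
  exact E.P.zne (mul_eq_right.mp h2.symm)

/-- A section of order 32 is controlled by the quotient over `B`. -/
theorem bd_master (h2 : IsPGroup 2 S) [B.Normal] (K : Subgroup S) (hQ : Bd 2 (K.map (QuotientGroup.mk' B)))
    (hbig : 16 < Nat.card E.C → K = ⊤ ∧ ∃ f : S, (∀ g : S, ⁅g, f⁆ ∈ B) ∧ f * f ∈ B ∧ f * f ≠ 1) : Bd 4 K := by
  intro H N hHK hs
  by_contra hlt
  push Not at hlt
  have hrel := pow_of_rel h2 hs hlt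
  set π := QuotientGroup.mk' B with hπ
  have hsplit := relIndex_split π hs.le
  rw [QuotientGroup.ker_mk'] at hsplit
  have himg := hQ _ _ (Subgroup.map_mono hHK) (hs.map π)
  have hk := relIndex_mul_card (inf_le_inf_right B hs.le)
  have hHB : Nat.card ↥(H ⊓ B) ≤ 8 := E.card ▸ Subgroup.card_le_of_le inf_le_right
  have hker : (N ⊓ B).relIndex (H ⊓ B) ≤ 8 :=
    le_trans (Nat.le_mul_of_pos_right _ Nat.card_pos) (hk.le.trans hHB)
  rw [hsplit] at hrel
  have hker8 : (N ⊓ B).relIndex (H ⊓ B) = 8 := by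
    refine le_antisymm hker ?_
    have := Nat.mul_le_mul_right ((N ⊓ B).relIndex (H ⊓ B)) himg
    omega
  have himg4 : 4 ≤ (N.map π).relIndex (H.map π) := by
    rw [hker8] at hrel
    omega
  rw [hker8] at hk
  have hNpos := Nat.card_pos (α := ↥(N ⊓ B))
  have hBH : B ≤ H := by
    have h : H ⊓ B = B := Subgroup.eq_of_le_of_card_ge inf_le_right (by rw [E.card]; omega)
    exact h ▸ inf_le_left
  have hN1 : ∀ x ∈ N, x ∈ B → x = 1 := fun x hxN hxB => by
    have h1 : Nat.card ↥(N ⊓ B) = 1 := by omega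
    have : x ∈ N ⊓ B := ⟨hxN, hxB⟩
    rwa [Subgroup.card_eq_one.mp h1, Subgroup.mem_bot] at this
  have hHC : H ≤ E.C := fun h hh => Subgroup.mem_centralizer_iff.mpr fun x hx =>
    (comm_eq_one.mp (hN1 _ (hs.comm h hh x (hBH hx)) (E.comm_B hx))).symm
  by_cases hC : 16 < Nat.card E.C
  · obtain ⟨rfl, f, hfc, hff, hf1⟩ := hbig hC
    rw [Subgroup.map_top_of_surjective _ (QuotientGroup.mk'_surjective _)] at hQ
    obtain ⟨d, hd, hde⟩ := mem_of_bd_top hQ (hs.map π) (v := π f) (by norm_num; omega)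
      (by rw [← map_mul, show π (f * f) = 1 from (QuotientGroup.eq_one_iff _).mpr hff]; exact one_mem _)
      (fun q _ => by
        obtain ⟨g, rfl⟩ := QuotientGroup.mk'_surjective B q
        rw [← map_commutatorElement, show π ⁅g, f⁆ = 1 from (QuotientGroup.eq_one_iff _).mpr (hfc g)]
        exact one_mem _)
    have hfH : f ∈ H := by
      have := H.mul_mem hd (hBH (QuotientGroup.eq.mp hde : d⁻¹ * f ∈ B))
      rwa [mul_inv_cancel_left] at this
    exact hf1 (hN1 _ (hs.sq f hfH) hff)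
  · push Not at hC
    have h1 := card_eq_map_mul π E.C
    rw [QuotientGroup.ker_mk', inf_eq_right.mpr E.B_le_C, E.card] at h1
    have h3 : (N.map π).relIndex (H.map π) ≤ Nat.card (E.C.map π) :=
      le_trans (Nat.le_mul_of_pos_right _ Nat.card_pos)
        ((relIndex_mul_card (Subgroup.map_mono hs.le)).le.trans (Subgroup.card_le_of_le (Subgroup.map_mono hHC)))
    omega

/-- A self-centralising normal `E₈`. -/
theorem bd_self (h2 : IsPGroup 2 S) (hC : E.C = B) : Bd 4 (⊤ : Subgroup S) := by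
  haveI := E.normal
  have hCard : Nat.card E.C = 8 := by rw [hC]; exact E.card
  refine E.bd_master h2 ⊤ ?_ fun h => by omega
  rw [map_top_mk]
  set π := QuotientGroup.mk' B with hπ
  have hQ8 : Nat.card (S ⧸ B) ≤ 8 := by
    have h1 := Subgroup.card_eq_card_quotient_mul_card_subgroup B
    have h3 := E.card_le
    rw [E.card] at h1
    rw [hCard] at h3
    omega
  intro H N _ hs
  by_contra hlt
  push Not at hlt
  have hrel := pow_of_rel (h2.to_quotient B) hs hlt
  have h1 := relIndex_mul_card hs.le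
  have h3 := Subgroup.card_le_card_group H
  have hpos := Nat.card_pos (α := N)
  have hN : N = ⊥ := by
    refine Subgroup.card_eq_one.mp ?_
    have := Nat.mul_le_mul_right (Nat.card N) hrel
    omega
  have hH : H = ⊤ := Subgroup.eq_top_of_card_eq H (by
    have := Nat.le_mul_of_pos_right (N.relIndex H) hpos
    omega)
  have hS : 4 * Nat.card E.C < Nat.card S := by
    have h4 := Subgroup.card_eq_card_quotient_mul_card_subgroup B
    have := Nat.le_mul_of_pos_right (N.relIndex H) hpos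
    rw [E.card] at h4
    rw [hCard]
    omega
  obtain ⟨s, r, hsr⟩ := E.exists_comm_notin hS
  refine hsr (hC.symm ▸ (QuotientGroup.eq_one_iff (N := B) _).mp ?_)
  have h5 := hs.comm (π s) (hH ▸ Subgroup.mem_top _) (π r) (hH ▸ Subgroup.mem_top _)
  rw [hN, Subgroup.mem_bot, ← map_commutatorElement] at h5
  exact h5

end Eight

end H30.SF
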