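import Cfsg.Agent.H30.SectFour.NormalEight
import Cfsg.Agent.H73.MacWilliamsMain

/-! A self-centralising `E₈` bounds the sectional rank of a 2-group by four. -/

set_option autoImplicit false
set_option linter.all false

namespace H30.SF

open scoped commutatorElement
open H31.SR

universe u

variable {S : Type u} [Group S]

/-- An involution of `A` acting on the normal `E₈` as a transvection with axis `⟨z, p⟩` and centre `⟨t⟩`. -/
structure Act (A B : Subgroup S) (z z2 a p q t : S) : Prop where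
  aA : a ∈ A
  aa : a * a = 1
  aC : a ∉ Subgroup.centralizer (B : Set S)
  pB : p ∈ B
  pp : p * p = 1
  p1 : p ≠ 1
  pz : p ≠ z
  ap : ⁅a, p⁆ = 1
  qB : q ∈ B
  aq : ⁅a, q⁆ = t
  t1 : t ≠ 1
  vals : ∀ x ∈ B, ⁅a, x⁆ = 1 ∨ ⁅a, x⁆ = t
  sel : ⁅a, z2⁆ = 1 → p = z2 ∧ ∀ x ∈ A, x * z2 = z2 * x
  moved : ⁅a, z2⁆ ≠ 1 → t = z

variable [Finite S] {z z2 b : S} {B : Subgroup S}

theorem exists_act (E : Eight z z2 b B) {A : Subgroup S} (hA2 : ∀ x ∈ A, x * x = 1)
    (hAC : ¬ A ≤ Subgroup.centralizer (B : Set S)) : ∃ a p q t, Act A B z z2 a p q t := by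
  by_cases hAM : A ≤ E.P.M
  · obtain ⟨a, haA, haC⟩ := Set.not_subset.mp hAC
    have haM := hAM haA
    refine ⟨a, z2, b, ⁅a, b⁆, haA, hA2 a haA, haC, E.z2B, E.P.z2z2, E.P.z2ne, E.P.z2nz,
      comm_eq_one.mpr (mem_cent.mp haM), E.bB, rfl, fun e => haC (E.mem_C haM (comm_eq_one.mp e)),
      fun x hx => ?_, fun _ => ⟨rfl, fun x hx => mem_cent.mp (hAM hx)⟩,
      fun h => absurd (comm_eq_one.mpr (mem_cent.mp haM)) h⟩
    rcases E.cases x hx with h | h
    · exact Or.inl (comm_eq_one.mpr (E.P.W_c h haM))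
    · right
      rw [show x = x * b * b by rw [mul_assoc, E.sq b E.bB, mul_one], comm_mul_right,
        comm_eq_one.mpr (E.P.W_c h haM), one_mul, E.com _ (E.Wle h) _ (E.comm_B E.bB), mul_inv_cancel_right]
  obtain ⟨a, haA, haM⟩ := Set.not_subset.mp hAM
  have haz : ⁅a, z2⁆ = z := (E.P.comm a).resolve_left fun e => haM (mem_cent.mpr (comm_eq_one.mp e))
  have haa := hA2 a haA
  have haz' : ⁅a, z⁆ = 1 := comm_eq_one.mpr (E.P.zc a)
  have hξ : ⁅a, b⁆ = 1 ∨ ⁅a, b⁆ = z := by
    refine E.P.eq_pair_of_fixed haz (E.hb a) ?_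
    rw [conj_by_invol haa, inv_mul_cancel]
  obtain ⟨p, hp, hap, hpW⟩ : ∃ p ∈ B, ⁅a, p⁆ = 1 ∧ p ∉ E.P.W := by
    rcases hξ with e | e
    · exact ⟨b, E.bB, e, E.bW⟩
    · refine ⟨b * z2, mul_mem E.bB E.z2B, ?_, fun h => E.bW ((Subgroup.mul_mem_cancel_right _ E.P.z2_W).mp h)⟩
      rw [comm_mul_right, e, haz, E.P.zc b, mul_inv_cancel_right, E.P.zz]
  have hw : ∀ w ∈ E.P.W, ⁅a, w⁆ = 1 ∨ ⁅a, w⁆ = z := by
    intro w hw
    rcases E.P.conj_W a hw with e | ⟨e, -, -⟩
    · exact Or.inl (commutator_eq_of_conj (by rw [e, one_mul]))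
    · exact Or.inr (commutator_eq_of_conj e)
  refine ⟨a, p, z2, z, haA, haa, fun h => haM (E.C_le_M h), hp, E.sq p hp,
    fun e => hpW (e ▸ one_mem _), fun e => hpW (e ▸ E.P.z_W), hap, E.z2B, haz, E.P.zne, fun x hx => ?_,
    fun h => absurd (haz ▸ h) E.P.zne, fun _ => rfl⟩
  rcases E.cases x hx with h | h
  · exact hw x h
  · rw [show x = x * b * b by rw [mul_assoc, E.sq b E.bB, mul_one], comm_mul_right]
    rcases hw _ h with e1 | e1 <;> rcases hξ with e2 | e2 <;> rw [e1, e2]
    · left; group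
    · right; rw [one_mul, E.P.zc, mul_inv_cancel_right]
    · right; rw [mul_one, mul_inv_cancel, mul_one]
    · left; rw [E.P.zc (x * b), mul_inv_cancel_right, E.P.zz]

namespace Act

variable {A : Subgroup S} {a p q t : S}

theorem comm_zp (E : Eight z z2 b B) (D : Act A B z z2 a p q t) : z * p = p * z := (E.P.zc p).symm

/-- the fixed plane -/
abbrev R (D : Act A B z z2 a p q t) (E : Eight z z2 b B) : Subgroup S := four z p E.P.zz D.pp (D.comm_zp E)

variable (E : Eight z z2 b B) (D : Act A B z z2 a p q t)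
include E D

theorem card_R : Nat.card (D.R E) = 4 := card_four E.P.zne D.p1 D.pz.symm

theorem R_le : D.R E ≤ B := fun x hx => by
  rcases mem_four'.mp hx with rfl | rfl | rfl | rfl
  exacts [one_mem _, E.zB, D.pB, mul_mem E.zB D.pB]

theorem R_comm {x : S} (hx : x ∈ D.R E) : a * x = x * a := by
  rcases mem_four'.mp hx with rfl | rfl | rfl | rfl
  · rw [one_mul, mul_one]
  · exact E.P.zc a
  · exact comm_eq_one.mp D.ap
  · exact ((show Commute a z from E.P.zc a).mul_right (show Commute a p from comm_eq_one.mp D.ap))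

theorem qR : q ∉ D.R E := fun h => D.t1 (D.aq ▸ comm_eq_one.mpr (D.R_comm E h))

theorem mem_R {x : S} (hx : x ∈ B) (hc : a * x = x * a) : x ∈ D.R E := by
  rcases cases_eight (D.R_le E) (D.card_R E) E.card D.qB (D.qR E) x hx with h | h
  · exact h
  · exfalso
    refine D.t1 (D.aq ▸ comm_eq_one.mpr ?_)
    have h1 : Commute a (x⁻¹ * (x * q)) := (show Commute a x from hc).inv_right.mul_right (D.R_comm E h)
    rwa [inv_mul_cancel_left] at h1

theorem val_mem {g : S} (hg : ⁅a, g⁆ ∈ B) : ⁅a, g⁆ ∈ D.R E := by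
  refine D.mem_R E hg ?_
  have h1 := conj_by_invol (y := g) D.aa
  rw [inv_eq_of_mul_eq_one_right (E.sq _ hg)] at h1
  exact mul_inv_eq_iff_eq_mul.mp h1

theorem tR : t ∈ D.R E := D.aq ▸ D.val_mem E (E.comm_B D.qB)

/-- The fixed points of `a` on the centraliser of `B`. -/
theorem cap (h2 : IsPGroup 2 S) (hA2 : ∀ x ∈ A, x * x = 1) (hAc : ∀ x ∈ A, ∀ y ∈ A, x * y = y * x)
    (hA8 : Nat.card A = 8) (hC : ∀ c : S, (∀ x ∈ A, c * x = x * c) → c ∈ A) :
    ∀ c ∈ E.C, a * c = c * a → c ∈ D.R E := by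
  have hzA : z ∈ A := hC z fun x _ => (E.P.zc x).symm
  have haz : a ≠ z := fun e => D.aC (e ▸ E.B_le_C E.zB)
  have ha1 : a ≠ 1 := fun e => D.aC (e ▸ one_mem _)
  by_cases hp : ∀ x ∈ A, p * x = x * p
  · have hpA : p ∈ A := hC p hp
    have hRA : D.R E ≤ A := fun x hx => by
      rcases mem_four'.mp hx with rfl | rfl | rfl | rfl
      exacts [one_mem _, hzA, hpA, mul_mem hzA hpA]
    have hcases := cases_eight hRA (D.card_R E) hA8 D.aA (fun h => D.aC (E.B_le_C (D.R_le E h)))
    intro c hc hca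
    have hcA : c ∈ A := hC c fun x hx => by
      rcases hcases x hx with h | h
      · exact E.cC (D.R_le E h) hc
      · have h1 : Commute c (x * a * a) :=
          (show Commute c (x * a) from E.cC (D.R_le E h) hc).mul_right (show Commute c a from hca.symm)
        rwa [mul_assoc, D.aa, mul_one] at h1
    rcases hcases c hcA with h | h
    · exact h
    · exfalso
      refine D.aC ?_
      have := mul_mem (inv_mem hc) (E.B_le_C (D.R_le E h))
      rwa [inv_mul_cancel_left] at this
  push Not at hp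
  obtain ⟨b', hb'A, hb'p⟩ := hp
  have hb'2 := hA2 b' hb'A
  have hfix : ∀ x ∈ D.R E, b' * x = x * b' → x = 1 ∨ x = z := by
    intro x hx hc
    rcases mem_four'.mp hx with e | e | e | e
    · exact Or.inl e
    · exact Or.inr e
    · exact absurd (e ▸ hc).symm hb'p
    · refine absurd ?_ hb'p
      rw [e] at hc
      have h1 : Commute b' (z⁻¹ * (z * p)) := (show Commute b' z from E.P.zc b').inv_right.mul_right hc
      rw [inv_mul_cancel_left] at h1
      exact h1.symm
  have hbR : ∀ x ∈ D.R E, b' * x * b'⁻¹ ∈ D.R E := fun x hx => by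
    refine D.mem_R E (E.normal.conj_mem x (D.R_le E hx) b') ?_
    have h1 : Commute a b' := hAc a D.aA b' hb'A
    exact ((h1.mul_right (D.R_comm E hx)).mul_right h1.inv_right)
  have hp' : ⁅b', p⁆ = z := by
    have h1 : ⁅b', p⁆ ∈ D.R E := by
      rw [commutatorElement_def]
      exact mul_mem (hbR p (mem_four'.mpr (Or.inr (Or.inr (Or.inl rfl))))) (inv_mem (mem_four'.mpr (Or.inr (Or.inr (Or.inl rfl)))))
    rcases hfix _ h1 (by
      have := conj_by_invol (y := p) hb'2
      rw [inv_eq_of_mul_eq_one_right (E.sq _ (D.R_le E h1))] at this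
      exact mul_inv_eq_iff_eq_mul.mp this) with e | e
    · exact absurd (comm_eq_one.mp e).symm hb'p
    · exact e
  set Q := four z a E.P.zz D.aa (E.P.zc a).symm with hQ
  have hQA : Q ≤ A := fun x hx => by
    rcases mem_four'.mp hx with rfl | rfl | rfl | rfl
    exacts [one_mem _, hzA, D.aA, mul_mem hzA D.aA]
  have hQp : ∀ x ∈ Q, p * x = x * p := fun x hx => by
    rcases mem_four'.mp hx with rfl | rfl | rfl | rfl
    · rw [one_mul, mul_one]
    · exact E.P.zc p
    · exact (comm_eq_one.mp D.ap).symm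
    · exact ((show Commute p z from E.P.zc p).mul_right (show Commute a p from comm_eq_one.mp D.ap).symm)
  have hcases := cases_eight hQA (card_four E.P.zne ha1 haz.symm) hA8 hb'A (fun h => hb'p (hQp b' h))
  have hsmall : ∀ c ∈ E.C, a * c = c * a → b' * c = c * b' → c = 1 ∨ c = z := by
    intro c hc hca hcb
    have hcA : c ∈ A := hC c fun x hx => by
      have hcQ : ∀ y ∈ Q, c * y = y * c := fun y hy => by
        rcases mem_four'.mp hy with rfl | rfl | rfl | rfl
        · rw [one_mul, mul_one]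
        · exact E.P.zc c
        · exact hca.symm
        · exact ((show Commute c z from E.P.zc c).mul_right (show Commute c a from hca.symm))
      rcases hcases x hx with h | h
      · exact hcQ x h
      · have h1 : Commute c (x * b' * b') := (show Commute c (x * b') from hcQ _ h).mul_right (show Commute c b' from hcb.symm)
        rwa [mul_assoc, hb'2, mul_one] at h1
    rcases hcases c hcA with h | h
    · rcases mem_four'.mp h with e | e | e | e
      · exact Or.inl e
      · exact Or.inr e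
      · exact absurd (e ▸ hc) D.aC
      · exact absurd ((Subgroup.mul_mem_cancel_left _ (E.B_le_C E.zB)).mp (e ▸ hc)) D.aC
    · exfalso
      have h1 : Commute p (c⁻¹ * (c * b')) :=
        (show Commute p c from (E.cC D.pB hc).symm).inv_right.mul_right (show Commute p (c * b') from hQp _ h)
      rw [inv_mul_cancel_left] at h1
      exact hb'p h1
  intro c hc hca
  by_contra hcR
  set Ca := E.C ⊓ Subgroup.centralizer ({a} : Set S) with hCa
  have hRCa : D.R E ≤ Ca := fun x hx => ⟨E.B_le_C (D.R_le E hx), mem_cent.mpr (D.R_comm E hx).symm⟩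
  haveI := E.C_normal
  obtain ⟨f, hfC, hfR, -, hft⟩ := exists_layer h2 (Ca ⊔ Subgroup.zpowers b') Ca (D.R E) le_sup_left hRCa
    (conj_mem_sup (fun s hs x hx => mul_mem (mul_mem hs hx) (inv_mem hs)) (fun x hx => by
      refine ⟨E.C_normal.conj_mem x hx.1 b', mem_cent.mpr ?_⟩
      have h1 : Commute a b' := hAc a D.aA b' hb'A
      exact ((h1.mul_right (show Commute x a from mem_cent.mp hx.2).symm).mul_right h1.inv_right).symm))
    (conj_mem_sup (fun s hs x hx => by
      rw [E.cC (D.R_le E hx) hs.1, mul_inv_cancel_right]; exact hx) hbR)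
    (fun h => hcR (h ⟨hc, mem_cent.mpr hca.symm⟩))
  have hy := hft b' (Subgroup.mem_sup_right (Subgroup.mem_zpowers b'))
  have hfa : a * f = f * a := (mem_cent.mp hfC.2).symm
  have hyc : b' * ⁅b', f⁆ = ⁅b', f⁆ * b' := by
    have := conj_by_invol (y := f) hb'2
    rw [inv_eq_of_mul_eq_one_right (E.sq _ (D.R_le E hy))] at this
    exact mul_inv_eq_iff_eq_mul.mp this
  have hpR : p ∈ D.R E := mem_four'.mpr (Or.inr (Or.inr (Or.inl rfl)))
  rcases hfix _ hy hyc with e | e
  · rcases hsmall f hfC.1 hfa (comm_eq_one.mp e) with e' | e' <;> rw [e'] at hfR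
    exacts [hfR (one_mem _), hfR (mem_four'.mpr (Or.inr (Or.inl rfl)))]
  · have h1 : f * p ∈ D.R E := by
      rcases hsmall (f * p) (mul_mem hfC.1 (E.B_le_C D.pB))
        ((show Commute a f from hfa).mul_right (show Commute a p from comm_eq_one.mp D.ap)) (comm_eq_one.mp (by
          rw [comm_mul_right, e, hp', E.P.zc f, mul_inv_cancel_right, E.P.zz])) with e' | e' <;> rw [e']
      exacts [one_mem _, mem_four'.mpr (Or.inr (Or.inl rfl))]
    exact hfR ((Subgroup.mul_mem_cancel_right _ hpR).mp h1)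

end Act

end H30.SF
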